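import Cfsg.Agent.Lib.Cert.J2.M
import Cfsg.Agent.Lib.Cert.Out3

set_option autoImplicit false
set_option maxRecDepth 100000

namespace Cfsg.Agent.Ct.J2o

open Cfsg.Agent.PC

open Cfsg.Agent.Fi Cfsg.Agent.Ct
def W_t : TL := (TL.node (TL.node (TL.node (TL.node (TL.leaf [nat_lit 0, nat_lit 3, nat_lit 0]) (TL.leaf [nat_lit 3, nat_lit 0, nat_lit 1, nat_lit 3, nat_lit 0, nat_lit 1, nat_lit 3, nat_lit 2, nat_lit 0, nat_lit 3, nat_lit 1, nat_lit 0, nat_lit 3, nat_lit 1, nat_lit 0, nat_lit 3, nat_lit 2, nat_lit 3, nat_lit 1, nat_lit 0, nat_lit 3, nat_lit 2, nat_lit 3, nat_lit 1, nat_lit 0, nat_lit 3, nat_lit 1, nat_lit 0, nat_lit 2])) (TL.node (TL.leaf [nat_lit 0, nat_lit 1, nat_lit 2, nat_lit 0, nat_lit 3, nat_lit 1, nat_lit 0, nat_lit 3, nat_lit 0, nat_lit 1, nat_lit 2, nat_lit 3, nat_lit 0, nat_lit 1, nat_lit 3, nat_lit 1, nat_lit 0, nat_lit 3, nat_lit 2, nat_lit 0, nat_lit 3, nat_lit 1, nat_lit 2, nat_lit 3, nat_lit 1, nat_lit 0, nat_lit 1, nat_lit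 3, nat_lit 1, nat_lit 2]) (TL.leaf [nat_lit 0, nat_lit 2, nat_lit 0, nat_lit 3, nat_lit 0, nat_lit 2, nat_lit 1, nat_lit 0, nat_lit 3, nat_lit 1, nat_lit 2, nat_lit 0, nat_lit 3, nat_lit 0, nat_lit 2, nat_lit 1, nat_lit 3, nat_lit 1, nat_lit 0, nat_lit 1, nat_lit 3, nat_lit 0, nat_lit 2, nat_lit 0, nat_lit 3]))) (TL.node (TL.node (TL.leaf [nat_lit 3, nat_lit 2, nat_lit 0, nat_lit 3, nat_lit 2, nat_lit 0, nat_lit 1, nat_lit 0, nat_lit 3, nat_lit 0, nat_lit 2]) (TL.leaf [nat_lit 3, nat_lit 0, nat_lit 2, nat_lit 1, nat_lit 0, nat_lit 3, nat_lit 1, nat_lit 2, nat_lit 0, nat_lit 1, nat_lit 0, nat_lit 2, nat_lit 3, nat_lit 0, nat_lit 3, nat_lit 1, nat_lit 3, nat_lit 2, nat_lit 1, nat_lit 0, nat_lit 2, nat_lit 3, nat_lit 0, nat_lit 1, nat_lit 2, nat_lit 0, nat_lit 1, nat_lit 3, nat_lit 2, nat_lit 0])) (TL.leaf [nat_lit 0, nat_lit 2, nat_lit 0, nat_lit 3, nat_lit 0, nat_lit 1, nat_lit 3, nat_lit 0, nat_lit 1, nat_lit 3, nat_lit 0, nat_lit 2, nat_lit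 3, nat_lit 1, nat_lit 0, nat_lit 3, nat_lit 1, nat_lit 3, nat_lit 1, nat_lit 0, nat_lit 3, nat_lit 2, nat_lit 3, nat_lit 0, nat_lit 1, nat_lit 3, nat_lit 0, nat_lit 1, nat_lit 2, nat_lit 3, nat_lit 0, nat_lit 2, nat_lit 0, nat_lit 2]))) (TL.node (TL.node (TL.node (TL.leaf [nat_lit 0, nat_lit 3, nat_lit 0, nat_lit 3]) (TL.leaf [nat_lit 0, nat_lit 3, nat_lit 0, nat_lit 2, nat_lit 1, nat_lit 0, nat_lit 3, nat_lit 1, nat_lit 0, nat_lit 2, nat_lit 3, nat_lit 0, nat_lit 2, nat_lit 1, nat_lit 0, nat_lit 3, nat_lit 1])) (TL.node (TL.leaf [nat_lit 0, nat_lit 3, nat_lit 0, nat_lit 2, nat_lit 1, nat_lit 3, nat_lit 0, nat_lit 1, nat_lit 2, nat_lit 0, nat_lit 3, nat_lit 0, nat_lit 3, nat_lit 2, nat_lit 0, nat_lit 1, nat_lit 0, nat_lit 3, nat_lit 1, nat_lit 2, nat_lit 0, nat_lit 3, nat_lit 0, nat_lit 3]) (TL.leaf [nat_lit 0, nat_lit 2, nat_lit 3, nat_lit 2, nat_lit 3, nat_lit 0]))) (TL.node (TL.node (TL.leaf [nat_lit 3, nat_lit 0, nat_lit 2, nat_lit 1,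 nat_lit 3, nat_lit 0, nat_lit 1, nat_lit 2, nat_lit 0, nat_lit 3, nat_lit 0, nat_lit 3, nat_lit 1, nat_lit 2, nat_lit 0, nat_lit 2, nat_lit 3, nat_lit 1, nat_lit 2, nat_lit 0]) (TL.leaf [nat_lit 2, nat_lit 3, nat_lit 1, nat_lit 0, nat_lit 3, nat_lit 0, nat_lit 1, nat_lit 0, nat_lit 1, nat_lit 3, nat_lit 0, nat_lit 1, nat_lit 3, nat_lit 0, nat_lit 1, nat_lit 3, nat_lit 2])) (TL.leaf [nat_lit 0, nat_lit 1, nat_lit 0, nat_lit 1, nat_lit 3, nat_lit 0, nat_lit 1, nat_lit 3, nat_lit 0, nat_lit 1, nat_lit 2, nat_lit 0, nat_lit 3, nat_lit 1, nat_lit 0, nat_lit 3, nat_lit 2, nat_lit 3, nat_lit 0, nat_lit 1, nat_lit 3, nat_lit 0, nat_lit 3, nat_lit 1, nat_lit 0, nat_lit 3, nat_lit 0, nat_lit 1, nat_lit 2]))))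
noncomputable def W (i : ℕ) : List ℕ := TL.get W_t i
def Qf_t : TN := (TN.node (TN.node (TN.leaf (nat_lit 0x8afc74daf51cc6856ca00786aa185ee1c9992ae02d3f1a3b5375b05990466956d32f80ae3d108a0480bd68ecbce741ac63c40d45d194b0b27c160a196a859d2d3e52c5c4c7048a8039e396a9b3289d2821b7a1095292aa360c4844156e8dc6f0dfa60738ba8bb89d06b18d93e02f5a0576329619f2d525bc569c83661688ad6af8ab6fc5ab4106bb67846045a85302eb91aa8e25368a3129a62462110c9327e82f44e06b03a5a50f72dcd10b2b0f2986093c466703c784d49809d694d93f8cf2d8f2d184921c3560384bd1010a6a506549a67cd57c46778c9836882b8ae369926cad85c7aa190aab00e2c34a8e8f1322624296d0b97506934b0dee8218425607645e16623afd0a91938817161bfc4b904fc78a3438f78db91b6999e0ca1db25a2a02e9f3a6cc972a2c8bf864c4c108251327d192aa8ae1156694a0b35059d274298e6ea9ad612992a17ae92347d61801bad9f973040a855ef1c160eb2d8263493881f5ca410630e00852cea3753a09c7c0ca3f262e28740a46179f7a6ccc529dc844c2ac47b8ee82b16e192937c091566852d0a3d4460c61a2c6eaa9314e992a4c11d0d31a670dc08d8f2ea058ad9aef1c106438fd1acd4488a8bd99bb501c80))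 (TN.leaf (nat_lit 0x6ee3085086a3c9324a18d68c9cb10d4a8d000d9525232ae48bac00c4b2ad1023e78a03386eae2c738557475aa4640609ac85354874e9a621670522f7ef8ebb757adae2e58abd5b6a590163ac0c1ed4488514f05f79022cf60dc1120e8cf2652fc5364f0e20d988a1149ec4853972a49c30e0455ad460c0b4b9ea876cdcc6c56193474d67630cf96ac56aadbcaf71015bd490a50b74ec8346ccc71e59250138064d2e02a1117649c5bebcf83098408e5a54d133b7a235676aca97201796850c7d006a8d979660e488eb0cdda54e0c07aadfb214dabb80aeae20b6f18b0aabb1c67d3ac264ea129f0238a34481afc99b862ca9953121c030482a28869216ec8880e79b849e411d68d14e3e317e9b7bb0d9a8344c8b5256010f9b1e44e932964b8301c63af856b9ac6c33a1c5cb1daa8d9241452dd112fd0aa773cf0db58af253e10abc5c800ab16f5a19))) (TN.leaf (nat_lit 0xe026596c898260a2280c5f501c2529e931c170844889a103bc96d82629ca5286fdb8aba1580d5532795912a5cd9d8f100b4223c65d80d2056f2045b84ea19b2d4211167e0c938b03d80c412346c4969e46a5c617d5cc5f74e50b2ad4ea81a0ed40c36cd78e2ef47a21344e96051a540609c7451b0cb0a84e4a357e99bc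4a989118ba45dc858bae0820a2f13a7541993e6d99da32d96362729177b1d0cd177e7a02a4a857ad397e069252db8225f3a540265a488c23c0ad94abb21dc1a5a78661b01808f693822055065c53850583488df4f7ec5ba552896156d84f485d8ae50b55cde0a6657909262b09a23aa1f72d59df43183c7185c6c2bd48e9325356a87619c327421e4c61653d5809a5430176d855760d4414087917b8c09622aedc9044850530683461eb5401877eed89ef044a6e96b26a27d8cdaae1a8460ba2cb1702cdabd0a3e0277298d0e651899d11d201d20a907630b3d2e75f33538f09e7e9262f65881a1389e841688962a7352bd26c6ca000778dd32f2ceb3a38ce5265558937a64fc79f884159c96b48317542a5b6b0be5231a121742cb856dac6002be4c10f7d1896f10f3b589a51040b8b4304282056069aba449265c1ef08a10c9e00d)))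
noncomputable def Qf (i : ℕ) : ℕ := get9 Qf_t (nat_lit 7) (nat_lit 127) i
noncomputable def Q (j c : ℕ) : ℕ := Qf (Nat.add (Nat.mul j (nat_lit 100)) c)
def B : List ℕ := [nat_lit 95, nat_lit 22, nat_lit 7, nat_lit 89]
noncomputable def q (j : ℕ) : Cfsg.Spor.J2 := ev J2.al (W j)
noncomputable def f0 : ℕ → ℕ := tabE J2.T Q W (nat_lit 14)
theorem a0 : Nat.beq (rng f0 (nat_lit 0) (nat_lit 100)) (nat_lit 0) = true := by decide +kernel
theorem h0 : ∀ i < 100, f0 i = 0 := by
  have h := zero_lt_zero f0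
  have h := zero_lt_add (a := (nat_lit 0)) (n := (nat_lit 100)) (b := (nat_lit 100)) h a0 rfl
  exact h
theorem md : Md J2.pt 100 B q Q 14 := (J2.md0).words (by decide +kernel) h0
def R_t1 : TL := (TL.node (TL.node (TL.node (TL.node (TL.node (TL.node (TL.leaf []) (TL.leaf [nat_lit 0])) (TL.node (TL.leaf [nat_lit 0]) (TL.leaf [nat_lit 0]))) (TL.node (TL.node (TL.leaf [nat_lit 0]) (TL.leaf [nat_lit 0])) (TL.leaf [nat_lit 0]))) (TL.node (TL.node (TL.node (TL.leaf []) (TL.leaf [])) (TL.node (TL.leaf []) (TL.leaf []))) (TL.node (TL.node (TL.leaf []) (TL.leaf [])) (TL.leaf [])))) (TL.node (TL.node (TL.node (TL.node (TL.leaf []) (TL.leaf [])) (TL.node (TL.leaf []) (TL.leaf []))) (TL.node (TL.node (TL.leaf []) (TL.leaf [])) (TL.leaf []))) (TL.node (TL.node (TL.node (TL.leaf []) (TL.leaf [])) (TL.node (TL.leaf []) (TL.leaf []))) (TL.node (TL.node (TL.leaf []) (TL.leaf [])) (TL.leaf []))))) (TL.node (TL.node (TL.node (TL.node (TL.node (TL.leaf []) (TL.leaf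 [nat_lit 1, nat_lit 2])) (TL.node (TL.leaf []) (TL.leaf [nat_lit 0, nat_lit 1, nat_lit 2, nat_lit 3, nat_lit 4]))) (TL.node (TL.node (TL.leaf []) (TL.leaf [nat_lit 3, nat_lit 4])) (TL.leaf []))) (TL.node (TL.node (TL.node (TL.leaf []) (TL.leaf [])) (TL.node (TL.leaf []) (TL.leaf []))) (TL.node (TL.node (TL.leaf []) (TL.leaf [])) (TL.leaf [])))) (TL.node (TL.node (TL.node (TL.node (TL.leaf []) (TL.leaf [])) (TL.node (TL.leaf []) (TL.leaf []))) (TL.node (TL.node (TL.leaf []) (TL.leaf [])) (TL.leaf []))) (TL.node (TL.node (TL.node (TL.leaf []) (TL.leaf [])) (TL.node (TL.leaf []) (TL.leaf []))) (TL.node (TL.node (TL.leaf []) (TL.leaf [])) (TL.leaf []))))))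
def R_t2 : TL := (TL.node (TL.node (TL.node (TL.node (TL.node (TL.node (TL.leaf []) (TL.leaf [nat_lit 0, nat_lit 2])) (TL.node (TL.leaf [nat_lit 0]) (TL.leaf [nat_lit 0, nat_lit 1, nat_lit 2]))) (TL.node (TL.node (TL.leaf []) (TL.leaf [nat_lit 1, nat_lit 2])) (TL.leaf [nat_lit 0, nat_lit 2]))) (TL.node (TL.node (TL.node (TL.leaf []) (TL.leaf [])) (TL.node (TL.leaf []) (TL.leaf []))) (TL.node (TL.node (TL.leaf []) (TL.leaf [])) (TL.leaf [])))) (TL.node (TL.node (TL.node (TL.node (TL.leaf []) (TL.leaf [])) (TL.node (TL.leaf []) (TL.leaf []))) (TL.node (TL.node (TL.leaf []) (TL.leaf [])) (TL.leaf []))) (TL.node (TL.node (TL.node (TL.leaf []) (TL.leaf [])) (TL.node (TL.leaf []) (TL.leaf []))) (TL.node (TL.node (TL.leaf []) (TL.leaf [])) (TL.leaf []))))) (TL.node (TL.node (TL.node (TL.node (TL.node (TL.leaf []) (TL.leaf [])) (TL.node (TL.leaf []) (TL.leaf [nat_lit 1, nat_lit 3]))) (TL.node (TL.node (TL.leaf []) (TL.leaf [])) (TL.leaf []))) (TL.node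 (TL.node (TL.node (TL.leaf []) (TL.leaf [])) (TL.node (TL.leaf []) (TL.leaf []))) (TL.node (TL.node (TL.leaf []) (TL.leaf [])) (TL.leaf [])))) (TL.node (TL.node (TL.node (TL.node (TL.leaf []) (TL.leaf [])) (TL.node (TL.leaf []) (TL.leaf []))) (TL.node (TL.node (TL.leaf []) (TL.leaf [])) (TL.leaf []))) (TL.node (TL.node (TL.node (TL.leaf []) (TL.leaf [])) (TL.node (TL.leaf []) (TL.leaf []))) (TL.node (TL.node (TL.leaf []) (TL.leaf [])) (TL.leaf []))))))
def R_t3 : TL := (TL.node R_t1 R_t2)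
def R_t4 : TL := (TL.node (TL.node (TL.node (TL.node (TL.node (TL.node (TL.leaf []) (TL.leaf [nat_lit 0, nat_lit 1])) (TL.node (TL.leaf [nat_lit 1]) (TL.leaf [nat_lit 0, nat_lit 1]))) (TL.node (TL.node (TL.leaf []) (TL.leaf [nat_lit 1])) (TL.leaf [nat_lit 1]))) (TL.node (TL.node (TL.node (TL.leaf []) (TL.leaf [])) (TL.node (TL.leaf []) (TL.leaf []))) (TL.node (TL.node (TL.leaf []) (TL.leaf [])) (TL.leaf [])))) (TL.node (TL.node (TL.node (TL.node (TL.leaf []) (TL.leaf [])) (TL.node (TL.leaf []) (TL.leaf []))) (TL.node (TL.node (TL.leaf []) (TL.leaf [])) (TL.leaf []))) (TL.node (TL.node (TL.node (TL.leaf []) (TL.leaf [])) (TL.node (TL.leaf []) (TL.leaf []))) (TL.node (TL.node (TL.leaf []) (TL.leaf [])) (TL.leaf []))))) (TL.node (TL.node (TL.node (TL.node (TL.node (TL.leaf []) (TL.leaf [])) (TL.node (TL.leaf []) (TL.leaf [nat_lit 0, nat_lit 3, nat_lit 5]))) (TL.node (TL.node (TL.leaf []) (TL.leaf [nat_lit 0, nat_lit 1])) (TL.leaf []))) (TL.node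 (TL.node (TL.node (TL.leaf []) (TL.leaf [])) (TL.node (TL.leaf []) (TL.leaf []))) (TL.node (TL.node (TL.leaf []) (TL.leaf [])) (TL.leaf [])))) (TL.node (TL.node (TL.node (TL.node (TL.leaf []) (TL.leaf [])) (TL.node (TL.leaf []) (TL.leaf []))) (TL.node (TL.node (TL.leaf []) (TL.leaf [])) (TL.leaf []))) (TL.node (TL.node (TL.node (TL.leaf []) (TL.leaf [])) (TL.node (TL.leaf []) (TL.leaf []))) (TL.node (TL.node (TL.leaf []) (TL.leaf [])) (TL.leaf []))))))
def R_t5 : TL := (TL.node (TL.node (TL.node (TL.node (TL.node (TL.node (TL.leaf []) (TL.leaf [nat_lit 1, nat_lit 3])) (TL.node (TL.leaf []) (TL.leaf [nat_lit 0, nat_lit 3]))) (TL.node (TL.node (TL.leaf []) (TL.leaf [nat_lit 3])) (TL.leaf [nat_lit 0]))) (TL.node (TL.node (TL.node (TL.leaf []) (TL.leaf [])) (TL.node (TL.leaf []) (TL.leaf []))) (TL.node (TL.node (TL.leaf []) (TL.leaf [])) (TL.leaf [])))) (TL.node (TL.node (TL.node (TL.node (TL.leaf []) (TL.leaf [])) (TL.node (TL.leaf []) (TL.leaf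 []))) (TL.node (TL.node (TL.leaf []) (TL.leaf [])) (TL.leaf []))) (TL.node (TL.node (TL.node (TL.leaf []) (TL.leaf [])) (TL.node (TL.leaf []) (TL.leaf []))) (TL.node (TL.node (TL.leaf []) (TL.leaf [])) (TL.leaf []))))) (TL.node (TL.node (TL.node (TL.node (TL.node (TL.leaf []) (TL.leaf [])) (TL.node (TL.leaf []) (TL.leaf []))) (TL.node (TL.node (TL.leaf []) (TL.leaf [])) (TL.leaf []))) (TL.node (TL.node (TL.node (TL.leaf []) (TL.leaf [])) (TL.node (TL.leaf []) (TL.leaf []))) (TL.node (TL.node (TL.leaf []) (TL.leaf [])) (TL.leaf [])))) (TL.node (TL.node (TL.node (TL.node (TL.leaf []) (TL.leaf [])) (TL.node (TL.leaf []) (TL.leaf []))) (TL.node (TL.node (TL.leaf []) (TL.leaf [])) (TL.leaf []))) (TL.node (TL.node (TL.node (TL.leaf []) (TL.leaf [])) (TL.node (TL.leaf []) (TL.leaf []))) (TL.node (TL.node (TL.leaf []) (TL.leaf [])) (TL.leaf []))))))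
def R_t6 : TL := (TL.node R_t4 R_t5)
def R_t : TL := (TL.node R_t3 R_t6)
noncomputable def R (i : ℕ) : List ℕ := TL.get R_t i
def Zm_t : TN := (TN.leaf (nat_lit 0x950055000000000055005500000000005500550000000000550054))
noncomputable def Zm (i : ℕ) : ℕ := get9 Zm_t (nat_lit 2) (nat_lit 3) i
def Za_t : TN := (TN.leaf (nat_lit 0x8d1a3468d1a34689122448912244850a142850a142850a142850a1428912244891224489122448912244850a142850a142850a142850a142850a142850a142850a142850a1428912244891224489122448912244850a142850a142850a142850a142891224489122448d1a3469120080))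
noncomputable def Za (i : ℕ) : ℕ := get9 Za_t (nat_lit 7) (nat_lit 127) i
noncomputable def f1 : ℕ → ℕ := mvE Q (nat_lit 100) (nat_lit 2) (nat_lit 7) Zm
theorem b0 : Nat.beq (rng f1 (nat_lit 0) (nat_lit 128)) (nat_lit 0) = true := by decide +kernel
theorem h1 : ∀ i < 128, f1 i = 0 := by
  have h := zero_lt_zero f1
  have h := zero_lt_add (a := (nat_lit 0)) (n := (nat_lit 128)) (b := (nat_lit 128)) h b0 rfl
  exact h
theorem sy : Sy q 2 7 R := md.sy' (by decide) (by decide) (upTo_beq (by decide +kernel)) (pr := 128) rfl h1 (by rw [J2.card]; decide)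
def sg (i : ℕ) : ℕ := Nat.land (Nat.shiftRight (nat_lit 43399) (Nat.mul (nat_lit 4) i)) (nat_lit 15)
def si (i : ℕ) : ℕ := Nat.land (Nat.shiftRight (nat_lit 39544) (Nat.mul (nat_lit 4) i)) (nat_lit 15)
theorem cs : clS Q B sg si (nat_lit 100) (nat_lit 14) (nat_lit 0) [nat_lit 95, nat_lit 22, nat_lit 7] = 0 := by decide +kernel
noncomputable def f2 : ℕ → ℕ := auE Q B (nat_lit 100) (nat_lit 2) (nat_lit 7) sg si Za
theorem c0 : Nat.beq (rng f2 (nat_lit 0) (nat_lit 128)) (nat_lit 0) = true := by decide +kernel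
theorem h2 : ∀ i < 128, f2 i = 0 := by
  have h := zero_lt_zero f2
  have h := zero_lt_add (a := (nat_lit 0)) (n := (nat_lit 128)) (b := (nat_lit 128)) h c0 rfl
  exact h
theorem au : Au (q 0) := md.au sy (by decide) cs (pr := 128) rfl h2 (by decide +kernel)
def Wc_t : TL := (TL.node (TL.node (TL.leaf [nat_lit 0, nat_lit 1, nat_lit 0, nat_lit 2, nat_lit 0, nat_lit 3, nat_lit 1, nat_lit 0, nat_lit 3, nat_lit 0, nat_lit 1, nat_lit 0, nat_lit 3, nat_lit 0, nat_lit 1, nat_lit 0, nat_lit 3, nat_lit 2, nat_lit 3, nat_lit 0, nat_lit 1, nat_lit 3, nat_lit 0, nat_lit 2, nat_lit 1, nat_lit 0, nat_lit 3, nat_lit 2]) (TL.leaf [nat_lit 2, nat_lit 3, nat_lit 0, nat_lit 3, nat_lit 1, nat_lit 3, nat_lit 0, nat_lit 3, nat_lit 2, nat_lit 1, nat_lit 0, nat_lit 2, nat_lit 3, nat_lit 0, nat_lit 1, nat_lit 2, nat_lit 0, nat_lit 3, nat_lit 1, nat_lit 3, nat_lit 2, nat_lit 0, nat_lit 3, nat_lit 1, nat_lit 0, nat_lit 3, nat_lit 0, nat_lit 3])) (TL.leaf [nat_lit 2,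 nat_lit 0, nat_lit 3, nat_lit 1, nat_lit 0, nat_lit 3, nat_lit 0, nat_lit 1, nat_lit 3, nat_lit 2, nat_lit 0, nat_lit 2, nat_lit 1, nat_lit 3, nat_lit 0, nat_lit 2, nat_lit 1]))
noncomputable def Wc (i : ℕ) : List ℕ := TL.get Wc_t i
def Qcf_t : TN := (TN.leaf (nat_lit 0x6eda9e0a4f0b9b18e2b611a1cf148f14e57984934434aac156ad0ccf7aae8393b461c27ea60da977a4df62cc7adb6bdd0ec522ab22d2840946293a204c10045d3a306268668b3f8c1a40ab205ca8ec800b2f94182206ea52f44fb1074b1d5bc75ecb26ce9b2391cd9920a4a8818397a678fd027a94213ac5383ae0d69cb58c0a0c9295b058696ddcd6129123992224f504805c6c446c56f01c3e3c85643ae6052416a8d040b752891eb6cabc37c0960f58f3c19830d7a451b1738de9b88b1c69b9e8c8081685d895ce904cc550ec1a0a65b19345cb3863dfad856af5f5f6da2c7a5914e909e21524625556008c936aca03e08a921ab8a02cd063a31f5761325221b18ab374080))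
noncomputable def Qcf (i : ℕ) : ℕ := get9 Qcf_t (nat_lit 7) (nat_lit 127) i
noncomputable def Qc (j c : ℕ) : ℕ := Qcf (Nat.add (Nat.mul j (nat_lit 100)) c)
noncomputable def f4 : ℕ → ℕ := tabE J2.T Qc Wc (nat_lit 3)
theorem e0 : Nat.beq (rng f4 (nat_lit 0) (nat_lit 100)) (nat_lit 0) = true := by decide +kernel
theorem h4 : ∀ i < 100, f4 i = 0 := by
  have h := zero_lt_zero f4
  have h := zero_lt_add (a := (nat_lit 0)) (n := (nat_lit 100)) (b := (nat_lit 100)) h e0 rfl
  exact h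
def CV0_t : TN := (TN.leaf (nat_lit 0x8b99d87651965908d9daaead605400882c0c568085b198d299b5bd9b2696c6755b53409025800000c6810522d0ceb586801575ac0a030cad00096a3589820))
noncomputable def CV0 (i : ℕ) : ℕ := get9 CV0_t (nat_lit 5) (nat_lit 31) i
def CV1_t : TN := (TN.leaf (nat_lit 0x2000000000000000000000000000000000000000300000000000a00000000000024000000004400000000000000001))
noncomputable def CV1 (i : ℕ) : ℕ := get9 CV1_t (nat_lit 5) (nat_lit 31) i
def CV2_t : TN := (TN.leaf (nat_lit 0x8000c000000000000000000000000000000000000000000000000000000000000004000000000000000000000000000100))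
noncomputable def CV2 (i : ℕ) : ℕ := get9 CV2_t (nat_lit 4) (nat_lit 15) i
noncomputable def Ct : List Lev := [⟨(nat_lit 1), (nat_lit 80), (nat_lit 2), CV0⟩, ⟨(nat_lit 0), (nat_lit 6), (nat_lit 1), CV1⟩, ⟨(nat_lit 2), (nat_lit 4), (nat_lit 0), CV2⟩]
def V_t : TN := (TN.leaf (nat_lit 0x11b8601b141e64144984ac51be14190402b1019051411451a506a9405451f9186145005081ee40539806e35351833454069814a40cc1411e50539019e546699190601510464561298034306c14110514d144b2533418acc606f940000053104f86005142ee50010c11842b81801e332c18792503290b90600c0d90664ac9801e514f9406e404b11bba6061140063018141be41461432a519a9813e50128c46e60068c2b8504f9007a60050c12e407e141b040049446c610114452504c144106101941b840151807e401414610541318060306c94412501b101044002885406006082e45000104c060130c7e660cb1404651539402a307e106c060549464e50138c2e650139064a50781446e51b3182b25014944b450040df9a6144940104134181ec40000c5005114180783014904d261b814002107a9192e612c1407e30150c07a32e19844c60bb14014611a9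80ce41849402e35419c04a412e142f850349004445401c11a51319946461b39944a70048806a51461806c307b981e6500688012319e9814050149819a519e18cc466ec1840061e19811e41ae1861860519419241be9415240191000010079006452e0187e6507b941ba41539879e6001147b850411400440051044051b11801e2046912d460030804450451811250ce9405231129804640541452e5111146ea63319801830401452a51b9140ba41049840050018401a406b1446a504a90184402e1184660ce1447e51bb18078604a9413a504798140414c141e447b2987e060140c0404044100184013100042000092d2604e906ee50118c1ae506c901345045146ca5006144fe50190c07840198c040301e94114415298640511e94032301e900be44061953861181406a40601804430141014641bb141445033100604119940664004081b0602b901444500186b06001882be50401018651ec96e1a7104141ba50b814004114118006404b94510641198cee652e180065))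
noncomputable def V (i : ℕ) : ℕ := get9 V_t (nat_lit 18) (nat_lit 262143) i
noncomputable def f3 : ℕ → ℕ := clE Q sg si (nat_lit 100) (nat_lit 0) [nat_lit 95, nat_lit 22, nat_lit 7] V
def Ve_t : TL := (TL.node (TL.node (TL.leaf [nat_lit 13, nat_lit 11, nat_lit 13, nat_lit 0, nat_lit 12, nat_lit 13, nat_lit 11, nat_lit 0, nat_lit 12, nat_lit 0, nat_lit 11, nat_lit 13, nat_lit 12, nat_lit 0, nat_lit 13, nat_lit 11, nat_lit 13, nat_lit 12, nat_lit 0, nat_lit 12, nat_lit 11, nat_lit 12, nat_lit 0, nat_lit 12, nat_lit 13, nat_lit 12, nat_lit 11, nat_lit 12, nat_lit 0, nat_lit 12, nat_lit 0, nat_lit 11, nat_lit 12, nat_lit 13]) (TL.leaf [nat_lit 12, nat_lit 11, nat_lit 12, nat_lit 13, nat_lit 12, nat_lit 11, nat_lit 13, nat_lit 12, nat_lit 0, nat_lit 12, nat_lit 13, nat_lit 11, nat_lit 12, nat_lit 11, nat_lit 13, nat_lit 0, nat_lit 12, nat_lit 13, nat_lit 11, nat_lit 0, nat_lit 12, nat_lit 0, nat_lit 11, nat_lit 13, nat_lit 12, nat_lit 0, nat_lit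 12, nat_lit 0, nat_lit 11, nat_lit 12, nat_lit 0, nat_lit 11, nat_lit 0, nat_lit 12])) (TL.node (TL.leaf [nat_lit 12, nat_lit 11, nat_lit 12, nat_lit 13, nat_lit 11, nat_lit 13, nat_lit 0, nat_lit 12, nat_lit 11, nat_lit 13, nat_lit 12, nat_lit 13, nat_lit 11, nat_lit 12, nat_lit 0, nat_lit 11, nat_lit 13, nat_lit 12, nat_lit 11]) (TL.leaf [nat_lit 0, nat_lit 11, nat_lit 12, nat_lit 13, nat_lit 12, nat_lit 0, nat_lit 11, nat_lit 12, nat_lit 0, nat_lit 12, nat_lit 11, nat_lit 0, nat_lit 12, nat_lit 13, nat_lit 12, nat_lit 11, nat_lit 0])))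
noncomputable def Ve (i : ℕ) : List ℕ := TL.get Ve_t i
theorem o3 : CardLE (Fx q [nat_lit 13, nat_lit 12, nat_lit 11, nat_lit 0]) 1 := (J2.md0).fin (J2.top) md Ve (by decide +kernel)
def Wt2_t : TL := (TL.node (TL.node (TL.leaf [nat_lit 14, nat_lit 0, nat_lit 14, nat_lit 0]) (TL.leaf [nat_lit 14, nat_lit 12, nat_lit 14, nat_lit 12, nat_lit 14, nat_lit 12])) (TL.node (TL.leaf [nat_lit 14, nat_lit 11, nat_lit 14, nat_lit 11, nat_lit 14, nat_lit 11]) (TL.leaf [nat_lit 14, nat_lit 0, nat_lit 11, nat_lit 12, nat_lit 11, nat_lit 14, nat_lit 0, nat_lit 11, nat_lit 12, nat_lit 11, nat_lit 14, nat_lit 0, nat_lit 11, nat_lit 12, nat_lit 11])))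
noncomputable def Wt2 (i : ℕ) : List ℕ := TL.get Wt2_t i
def Z2_t : TN := (TN.leaf (nat_lit 0x6007003801c00e0070038012e0e007003801c00e007003801c00e007003801c00e007003801c00e007003801c00e007003801c00e007003801c00e007003801c00e00f002000c00e007003801c00e007003801c00e004b83801c00e007003801c00e007003801c00e007003801c00e007003801c00e007003801c00e0070025c1c00e007003801c00e007003801c00e007003801c016007003801c00e007003801c00e007003801c00e010b83801c00e007003801c00e007003801c00e0070025c1c00e007003801c00e007003801c00e007003801c00e007003801c0160070038010006007003801c016007003801c00e007003801c00e007003801c00e007003801c00e007003801c00e0070038010006007003801c00e007003801c00e007003801c00e007003801c00e0070025c1c00e007003801c00e007003801c00e007003801c00e0070025c1c00e007003801c00e007003801c00e007003801c00e007003801c00e007003801c00e007003801c016007003801c00e007003801c00e007003801c00e007003801c00e007003801c00e007003801c00e007003801c00e007003801c00e007003801c00e007003801c00e007003801c00e007003801c00e0070025c1c00e007003801c00e007003801c00e007003802c00e007003801c00e007003801c00e007003801c00e007003802c00e007003801c00e007003801))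
noncomputable def Z2 (i : ℕ) : ℕ := get9 Z2_t (nat_lit 13) (nat_lit 8191) i
noncomputable def u2 : ℕ → ℕ := lcE Q B (nat_lit 100) (nat_lit 14) sg si (nat_lit 0) V Wt2 (nat_lit 4) (nat_lit 0) Z2
theorem n2 : cnt Z2 (nat_lit 0) 315 = 3 := by decide +kernel
def Wt1_t : TL := (TL.node (TL.node (TL.leaf [nat_lit 14, nat_lit 11, nat_lit 14, nat_lit 11, nat_lit 14, nat_lit 11]) (TL.leaf [nat_lit 14, nat_lit 0, nat_lit 11, nat_lit 0, nat_lit 14, nat_lit 0, nat_lit 11, nat_lit 0, nat_lit 14, nat_lit 0, nat_lit 11, nat_lit 0, nat_lit 14, nat_lit 0, nat_lit 11, nat_lit 0, nat_lit 14, nat_lit 0, nat_lit 11, nat_lit 0])) (TL.leaf [nat_lit 14, nat_lit 0, nat_lit 14, nat_lit 0, nat_lit 14, nat_lit 0, nat_lit 14, nat_lit 0]))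
noncomputable def Wt1 (i : ℕ) : List ℕ := TL.get Wt1_t i
def Z1_t : TN := (TN.leaf (nat_lit 0x600f0058020006004b83803c00e00b003801c00e0070038010006007003801c00e007003801c01e00b007803c016007003802c00e00b007803c016007005801c00e00f007803c01e007003802c00e007003801c016007003801c00e007005801c00e00b003801c00e007005801c00e00b005803c016007003801c00e008001803c01600b005802c016007005801c00e00f003801c00e0070025c1c00e00b005803c01e00b005802c01600f007802c01600b007803c01600f007802c01600b007803c01600b003801c00e00b005802c016007003801c016007003802c00e00f005802c01e007003801c00e007003801c01600b005802c01600f005802c01600b005802c01600b003801c00e00f005802c01e00b0058022e1e007003801c00e007003802c00e007003803c00e007003801c016007003802c00e007003801c016007005801c00e007003801000600f005802000600c001802c01600b005802c011707003801c016007007801c00e007007801c00e007003802c00e00b005802c016007005801c00e00b003801c00e00f003801c01600b005801c00e007005801c00e008001801c01600b003802c01600b005801c00e004001801c00e00f007803c01e007003801c00e00b005802c00e00b005801c01600b003801c01600b003802c01e007005801c01600b003801c00e00b003801c00e007003801c00e007003802))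
noncomputable def Z1 (i : ℕ) : ℕ := get9 Z1_t (nat_lit 13) (nat_lit 8191) i
noncomputable def u1 : ℕ → ℕ := lcE Q B (nat_lit 100) (nat_lit 14) sg si (nat_lit 0) V Wt1 (nat_lit 3) (nat_lit 0) Z1
theorem n1 : cnt Z1 (nat_lit 0) 315 = 8 := by decide +kernel
def Wt0_t1 : TL := (TL.node (TL.node (TL.node (TL.node (TL.node (TL.node (TL.leaf [nat_lit 0, nat_lit 14, nat_lit 0, nat_lit 14, nat_lit 0, nat_lit 14]) (TL.leaf [nat_lit 0, nat_lit 14])) (TL.leaf [])) (TL.node (TL.leaf []) (TL.leaf []))) (TL.node (TL.node (TL.leaf []) (TL.leaf [])) (TL.node (TL.leaf []) (TL.leaf [])))) (TL.node (TL.node (TL.node (TL.leaf []) (TL.leaf [])) (TL.node (TL.leaf []) (TL.leaf []))) (TL.node (TL.node (TL.leaf []) (TL.leaf [])) (TL.node (TL.leaf []) (TL.leaf []))))) (TL.node (TL.node (TL.node (TL.node (TL.leaf []) (TL.leaf [])) (TL.node (TL.leaf []) (TL.leaf []))) (TL.node (TL.node (TL.leaf []) (TL.leaf [])) (TL.node (TL.leaf []) (TL.leaf [])))) (TL.node (TL.node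 (TL.node (TL.leaf []) (TL.leaf [])) (TL.node (TL.leaf []) (TL.leaf []))) (TL.node (TL.node (TL.leaf []) (TL.leaf [])) (TL.node (TL.leaf []) (TL.leaf []))))))
def Wt0_t2 : TL := (TL.node (TL.node (TL.node (TL.node (TL.node (TL.leaf []) (TL.leaf [])) (TL.node (TL.leaf []) (TL.leaf []))) (TL.node (TL.node (TL.leaf []) (TL.leaf [])) (TL.node (TL.leaf []) (TL.leaf [])))) (TL.node (TL.node (TL.node (TL.leaf []) (TL.leaf [])) (TL.node (TL.leaf []) (TL.leaf []))) (TL.node (TL.node (TL.leaf []) (TL.leaf [])) (TL.node (TL.leaf []) (TL.leaf []))))) (TL.node (TL.node (TL.node (TL.node (TL.leaf []) (TL.leaf [])) (TL.node (TL.leaf []) (TL.leaf []))) (TL.node (TL.node (TL.leaf []) (TL.leaf [])) (TL.node (TL.leaf []) (TL.leaf [])))) (TL.node (TL.node (TL.node (TL.leaf []) (TL.leaf [])) (TL.node (TL.leaf []) (TL.leaf []))) (TL.node (TL.node (TL.leaf []) (TL.leaf [])) (TL.node (TL.leaf []) (TL.leaf []))))))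
def Wt0_t : TL := (TL.node Wt0_t1 Wt0_t2)
noncomputable def Wt0 (i : ℕ) : List ℕ := TL.get Wt0_t i
def Z0_t : TN := (TN.leaf (nat_lit 0x6004000000c008000001801c00e0070020000006004000000c0080030038010000003002000c0080030038010006004001801000000300380100000030038010000007003801c00e00700200000000030038010006004b82000000000000000000000030038010006007002000c008003003801c00e004001801c0080030025c10006007002000000000000000000060040000002e0e0040018010000000001801c00e004001801000600700200000000030038010006007002000000000300380100060070020000006004000000c008000001801c008003002000c00e004000000c008000001801c00e007002000000000300380100060070038010006004000000c00e0070038010006004000000c00e004001801c0080000000000000000000000000600400180100000030038010006004000000c008000001801c00e0040018010000000001801c00e004000000c00e0070020000000000000000000600700380100060070020000000003002000c00e007002000c008003002000c0080000000000000000000000c00e007002000c00800300200000000000000000006007003801000000300200000060040000000006007002000c00e007003801c008000001801c008003003801000000000180100000030038010000003003801c008000001801c0080030038010000003003801c00e004000000c00e004000000))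
noncomputable def Z0 (i : ℕ) : ℕ := get9 Z0_t (nat_lit 13) (nat_lit 8191) i
noncomputable def u0 : ℕ → ℕ := lcE Q B (nat_lit 100) (nat_lit 14) sg si (nat_lit 0) V Wt0 (nat_lit 1) (nat_lit 1) Z0
theorem n0 : cnt Z0 (nat_lit 0) 315 = 160 := by decide +kernel
theorem d0 : Nat.beq (rng f3 (nat_lit 0) (nat_lit 314)) (nat_lit 0) = true := by decide +kernel
theorem v2x0 : Nat.beq (rng u2 (nat_lit 0) (nat_lit 315)) (nat_lit 0) = true := by decide +kernel
theorem v1x0 : Nat.beq (rng u1 (nat_lit 0) (nat_lit 315)) (nat_lit 0) = true := by decide +kernel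
theorem v0x0 : Nat.beq (rng u0 (nat_lit 0) (nat_lit 315)) (nat_lit 0) = true := by decide +kernel
theorem h3 : ∀ i < 314, f3 i = 0 := by
  have h := zero_lt_zero f3
  have h := zero_lt_add (a := (nat_lit 0)) (n := (nat_lit 314)) (b := (nat_lit 314)) h d0 rfl
  exact h
theorem cl : Cl q sg 0 V 315 := md.cl2 cs h3 (reps_tabs (J2.md0).reps (by decide +kernel) h4) (M' := 4) (t := Ct) (by decide +kernel)
  (by rw [J2.card]; decide +kernel)
theorem k2 : ∀ i < 315, u2 i = 0 := by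
  have h := zero_lt_zero u2
  have h := zero_lt_add (a := (nat_lit 0)) (n := (nat_lit 315)) (b := (nat_lit 315)) h v2x0 rfl
  exact h
theorem o2 : CardLE (Fx q [nat_lit 12, nat_lit 11, nat_lit 0]) 3 := md.lvc cs cl au (aw := [nat_lit 7, nat_lit 7, nat_lit 10, nat_lit 10, nat_lit 8, nat_lit 10]) (y := 13) (by decide +kernel) k2 n2 o3
theorem k1 : ∀ i < 315, u1 i = 0 := by
  have h := zero_lt_zero u1
  have h := zero_lt_add (a := (nat_lit 0)) (n := (nat_lit 315)) (b := (nat_lit 315)) h v1x0 rfl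
  exact h
theorem o1 : CardLE (Fx q [nat_lit 11, nat_lit 0]) 24 := md.lvc cs cl au (aw := [nat_lit 9, nat_lit 9]) (y := 12) (by decide +kernel) k1 n1 o2
theorem k0 : ∀ i < 315, u0 i = 0 := by
  have h := zero_lt_zero u0
  have h := zero_lt_add (a := (nat_lit 0)) (n := (nat_lit 315)) (b := (nat_lit 315)) h v0x0 rfl
  exact h
theorem o0 : CardLE (Fx q [nat_lit 0]) 3840 := md.lvc cs cl au (aw := [nat_lit 7, nat_lit 7]) (y := 11) (by decide +kernel) k0 n0 o1
theorem aut : Nat.card (MulAut (Cfsg.Spor.J2)) ≤ 315 * 3840 := cl.top au o0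
def pi_t : TN := (TN.leaf (nat_lit 0xbd4a858bf8ea1a8d1ece0869e25d998a4617ac59d396760d1b56c7d5ae724ad30be7a8764162944492349a567237c1a0395665c3cac6cfb560dd0854a365424d7153f105990200d88ba8a24f0c02287170eb90040650593))
noncomputable def pi (i : ℕ) : ℕ := get9 pi_t (nat_lit 7) (nat_lit 127) i
def pj_t : TN := (TN.leaf (nat_lit 0xbd4a858bf8ea1a8d1ece0869e25d998a4617ac59d396760d1b56c7d5ae724ad30be7a8764162944492349a567237c1a0395665c3cac6cfb560dd0854a365424d7153f105990200d88ba8a24f0c02287170eb90040650593))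
noncomputable def pj (i : ℕ) : ℕ := get9 pj_t (nat_lit 7) (nat_lit 127) i
def Wo_t : TL := (TL.node (TL.node (TL.leaf [nat_lit 3, nat_lit 0, nat_lit 2, nat_lit 1, nat_lit 0, nat_lit 3, nat_lit 1, nat_lit 2, nat_lit 3, nat_lit 0, nat_lit 3, nat_lit 2, nat_lit 1, nat_lit 3, nat_lit 0, nat_lit 1, nat_lit 2, nat_lit 0, nat_lit 3]) (TL.leaf [nat_lit 3, nat_lit 0, nat_lit 1, nat_lit 3, nat_lit 0, nat_lit 1, nat_lit 3, nat_lit 2, nat_lit 0, nat_lit 3, nat_lit 1, nat_lit 0, nat_lit 3, nat_lit 1, nat_lit 3, nat_lit 0, nat_lit 1, nat_lit 2, nat_lit 3, nat_lit 0, nat_lit 1, nat_lit 2, nat_lit 3, nat_lit 2])) (TL.node (TL.leaf [nat_lit 2, nat_lit 3, nat_lit 0, nat_lit 3, nat_lit 1, nat_lit 3, nat_lit 0, nat_lit 3, nat_lit 2, nat_lit 0, nat_lit 1, nat_lit 3, nat_lit 1, nat_lit 2, nat_lit 0, nat_lit 3, nat_lit 0, nat_lit 2, nat_lit 1, nat_lit 0, nat_lit 3, nat_lit 1, nat_lit 2, nat_lit 0, nat_lit 3, nat_lit 2, nat_lit 0]) (TL.leaf [nat_lit 0, nat_lit 1,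 nat_lit 2, nat_lit 0, nat_lit 3, nat_lit 0, nat_lit 3, nat_lit 1, nat_lit 2, nat_lit 0])))
noncomputable def Wo (i : ℕ) : List ℕ := TL.get Wo_t i
noncomputable def g1 : ℕ → ℕ := nzE J2.T (nat_lit 100) (nat_lit 4) pi pj Wo
theorem ge0 : Nat.beq (rng g1 (nat_lit 0) (nat_lit 100)) (nat_lit 0) = true := by decide +kernel
theorem l1 : ∀ i < 100, g1 i = 0 := by
  have h := zero_lt_zero g1
  have h := zero_lt_add (a := (nat_lit 0)) (n := (nat_lit 100)) (b := (nat_lit 100)) h ge0 rfl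
  exact h
noncomputable def g2 : ℕ → ℕ := ufE J2.T [[nat_lit 2, nat_lit 1, nat_lit 3, nat_lit 0, nat_lit 3, nat_lit 1, nat_lit 3, nat_lit 0, nat_lit 3, nat_lit 2, nat_lit 0, nat_lit 2, nat_lit 0, nat_lit 2, nat_lit 3, nat_lit 2, nat_lit 0, nat_lit 1, nat_lit 2, nat_lit 3, nat_lit 2, nat_lit 0, nat_lit 3, nat_lit 1], [nat_lit 0, nat_lit 1, nat_lit 0, nat_lit 3, nat_lit 0, nat_lit 3, nat_lit 1, nat_lit 3, nat_lit 0, nat_lit 3, nat_lit 2, nat_lit 0, nat_lit 2, nat_lit 0, nat_lit 2, nat_lit 1, nat_lit 3, nat_lit 2, nat_lit 1, nat_lit 0, nat_lit 3]] (nat_lit 95)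
theorem gf0 : Nat.beq (rng g2 (nat_lit 0) (nat_lit 100)) (nat_lit 0) = true := by decide +kernel
theorem l2 : ∀ i < 100, g2 i = 0 := by
  have h := zero_lt_zero g2
  have h := zero_lt_add (a := (nat_lit 0)) (n := (nat_lit 100)) (b := (nat_lit 100)) h gf0 rfl
  exact h
theorem out : Nat.card (Cfsg.Out (Cfsg.Spor.J2)) = 2 := by
  obtain ⟨α, h⟩ := (J2.md0).outer (J2.top) (by decide +kernel) l1 (x := 95) (by decide) (by decide +kernel) l2
  exact out_two (J2.ctr) aut (by rw [J2.card]; decide) ((J2.md0).outer3 h (ws := [[nat_lit 3, nat_lit 1], [], [nat_lit 3, nat_lit 0, nat_lit 3, nat_lit 1, nat_lit 2], [nat_lit 3, nat_lit 2, nat_lit 0, nat_lit 1], [nat_lit 3, nat_lit 0, nat_lit 1, nat_lit 0, nat_lit 3, nat_lit 2, nat_lit 0]]) (y := 0) (by decide +kernel) (by decide +kernel))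

end Cfsg.Agent.Ct.J2o
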